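import Cfsg.Agent.Lib.Mult.Cov
import Cfsg.Agent.Lib.Grp.M12.Main

set_option autoImplicit false
set_option maxRecDepth 100000
set_option Elab.async false

namespace Cfsg.Agent.Mult.M12

open Cfsg.Agent.CG Cfsg.Agent.CG.M12

noncomputable def cvP : List (List ℕ × List ℕ) := [([40,36,33,39,36,38],
  [33,33,39,40,36,33,39,36,38,36])]
noncomputable def cv0s0 : List (ℕ × ℕ) := [(16, (Nat.shiftLeft (Nat.sub (Nat.pow 2 12) 1) 0))]
noncomputable def cv0s33 : List (ℕ × ℕ) := [(8, copies 16 2 0x60),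
  (4, copies 16 2 0x60c),
  (2, copies 16 2 0x110),
  (1, copies 16 2 0x140),
  (4, copies 16 2 0x404),
  (8, copies 16 2 0x60),
  (16, 0x8f2)]
noncomputable def cv0s34 : List (ℕ × ℕ) := [(16, 0x8f2),
  (8, copies 16 2 0x60),
  (4, copies 16 2 0x404),
  (1, copies 16 2 0x140),
  (2, copies 16 2 0x110),
  (4, copies 16 2 0x60c),
  (8, copies 16 2 0x60)]
noncomputable def cv0s35 : List (ℕ × ℕ) := [(8, copies 16 2 0x18),
  (4, copies 16 2 0xb00),
  (2, copies 16 2 0x20),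
  (1, copies 16 2 0x1040),
  (2, copies 16 2 0x2000),
  (4, copies 16 2 0xa04),
  (8, copies 16 2 0x18),
  (16, 0x3c3)]
noncomputable def cv0s36 : List (ℕ × ℕ) := [(16, 0x3c3),
  (8, copies 16 2 0x18),
  (4, copies 16 2 0xa04),
  (2, copies 16 2 0x2000),
  (1, copies 16 2 0x1040),
  (2, copies 16 2 0x20),
  (4, copies 16 2 0xb00),
  (8, copies 16 2 0x18)]
noncomputable def cv0s37 : List (ℕ × ℕ) := [(8, copies 16 2 0xc8),
  (4, copies 16 2 0xc04),
  (2, copies 16 2 0x320),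
  (1, copies 16 2 0x4540),
  (2, copies 16 2 0x20),
  (4, copies 16 2 0xc04),
  (8, copies 16 2 0xc8),
  (16, 0xbf7)]
noncomputable def cv0s38 : List (ℕ × ℕ) := [(8, copies 16 2 0x8),
  (4, copies 16 2 0xc),
  (2, copies 16 2 0x20),
  (1, copies 16 2 0x514),
  (2, copies 16 2 0x20),
  (4, copies 16 2 0xc),
  (8, copies 16 2 0x8),
  (16, 0x3e7)]
noncomputable def cv0s39 : List (ℕ × ℕ) := [(8, copies 16 2 0x10),
  (4, copies 16 2 0x100),
  (2, copies 16 2 0x202),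
  (1, copies 16 2 0x44),
  (2, copies 16 2 0x2),
  (8, copies 16 2 0x10),
  (16, 0xee9)]
noncomputable def cv0s40 : List (ℕ × ℕ) := [(4, copies 16 2 0xc),
  (2, copies 16 2 0x20),
  (1, copies 16 2 0x145),
  (2, copies 16 2 0x20),
  (4, copies 16 2 0xc),
  (16, 0x3c0)]
noncomputable def cv0 : Mono := ⟨32, 5, 2, 0, [cv0s0,[],[],[],[],[],[],[],[],[],[],[],[],[],[],[],[],[],[],[],[],[],[],[],[],[],[],[],[],[],[],[],[],cv0s33,cv0s34,cv0s35,cv0s36,cv0s37,cv0s38,cv0s39,cv0s40], [0,0,0,0,0,0,0,0,1,0,0,0,0,0,0,1,0,0,1,0,0,0,0,0,1]⟩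

theorem cvc0 : cv0.chk tcR 0 330 = true := by decide +kernel
theorem cvc1 : cv0.chkP cvP [1] = true := by decide +kernel
theorem cvc2 : chkPairs app bs tcS cvP = true := by decide +kernel

theorem pairs : ∀ p ∈ cvP, (∀ a ∈ p.1 ++ p.2, a ∈ tcS) ∧ ev act.gen (p.1 ++ p.2) = ev act.gen (p.2 ++ p.1) :=
  pairs_of_chk base cvc2

theorem pl0 : PL tcR cvP (ZMod 2) ([1].map Nat.cast) :=
  haveI : NeZero cv0.m := ⟨by decide⟩
  Mono.pl (D := cv0) (by decide) (by decide +kernel)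
    cvc0
    cvc1

theorem ex : EX PG (Multiplicative (ZMod 2)) :=
  PL.ex bounds rels clS card.ge pl0 pairs (top_of_spanL (k := 2) (by decide +kernel))

end Cfsg.Agent.Mult.M12
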